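import Groth.Prelude.Def_CAlgX
import Groth.Prelude.Def_CAlg
import Mathlib.RingTheory.Ideal.AssociatedPrime.Finiteness
import Mathlib.Algebra.Algebra.Operations
import Mathlib.Algebra.Module.Submodule.Pointwise
import Mathlib.RingTheory.Regular.RegularSequence
import Mathlib.LinearAlgebra.Matrix.Adjugate
import Mathlib.RingTheory.Ideal.Operations

/-!
McCoy's lemma and the Hilbert–Burch theorem.
-/

set_option autoImplicit false
set_option linter.style.haveILetI false
universe u

open Matrix
open scoped Pointwise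

namespace Groth.Agent.HilbBurch

variable {R : Type u} [CommRing R]

theorem minor_mem {n m r : ℕ} (Ψ : Matrix (Fin n) (Fin m) R) (f : Fin r → Fin n) (g : Fin r → Fin m) :
    (Ψ.submatrix f g).det ∈ CAlgX.minorIdeal Ψ r :=
  Ideal.subset_span ⟨(f, g), rfl⟩

/-- McCoy: an element killing the maximal minors of an injective matrix is zero. -/
theorem mccoy {n m : ℕ} (Ψ : Matrix (Fin n) (Fin m) R) (hΨ : Function.Injective Ψ.mulVec) (c : R)
    (hc : ∀ (f : Fin m → Fin n) (g : Fin m → Fin m), c * (Ψ.submatrix f g).det = 0) : c = 0 := by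
  classical
  suffices h : ∀ (k r : ℕ), r + k = m → ∀ (f : Fin r → Fin n) (g : Fin r → Fin m), c * (Ψ.submatrix f g).det = 0 by
    simpa using h m 0 (zero_add m) Fin.elim0 Fin.elim0
  intro k
  induction k with
  | zero =>
    intro r hr
    obtain rfl : r = m := hr
    exact hc
  | succ k ih =>
    intro r hr f g
    by_cases hg : Function.Injective g
    · obtain ⟨j, hj⟩ : ∃ j, j ∉ Set.range g := by
        by_contra hcon
        push Not at hcon
        have := Fintype.card_le_of_surjective g hcon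
        simp only [Fintype.card_fin] at this
        omega
      let g' : Fin (r + 1) → Fin m := Fin.cons j g
      let v : Fin m → R := ∑ l : Fin (r + 1),
        Pi.single (g' l) (c * ((-1) ^ (l : ℕ) * (Ψ.submatrix f (g' ∘ l.succAbove)).det))
      have hv : Ψ.mulVec v = 0 := by
        rw [Matrix.mulVec_sum]
        ext i
        have h0 := ih (r + 1) (by omega) (Fin.cons i f) g'
        rw [Matrix.det_succ_row_zero, Finset.mul_sum] at h0
        rw [Finset.sum_apply, Pi.zero_apply, ← h0]
        refine Finset.sum_congr rfl fun l _ => ?_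
        rw [Matrix.mulVec_single]
        simp only [Matrix.submatrix_apply, Fin.cons_zero, Pi.smul_apply, Matrix.col_apply,
          MulOpposite.smul_eq_mul_unop, MulOpposite.unop_op, Matrix.submatrix_submatrix]
        rw [show (Fin.cons i f : Fin (r + 1) → Fin n) ∘ Fin.succ = f by ext l; simp]
        ring
      have hzero : v = 0 := hΨ (by rw [hv, Matrix.mulVec_zero])
      have := congrFun hzero j
      simp only [v, Finset.sum_apply, Pi.zero_apply] at this
      rw [Finset.sum_eq_single 0, show g' 0 = j from rfl, Pi.single_eq_same] at this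
      · simpa [Function.comp_def, g', Fin.succAbove_zero] using this
      · intro l _ hl
        obtain ⟨l', rfl⟩ := Fin.exists_succ_eq.2 hl
        refine Pi.single_eq_of_ne (fun e => hj ⟨l', ?_⟩) _
        simpa [g'] using e.symm
      · intro h
        exact absurd (Finset.mem_univ _) h
    · obtain ⟨a, b, hab, hne⟩ : ∃ a b, g a = g b ∧ a ≠ b := by
        simpa [Function.Injective] using hg
      rw [Matrix.det_zero_of_column_eq hne fun i => by simp [Matrix.submatrix_apply, hab], mul_zero]

theorem exists_regular_mem [IsNoetherianRing R] (I : Ideal R) (h : ∀ c : R, (∀ a ∈ I, c * a = 0) → c = 0) :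
    ∃ x ∈ I, x ∈ nonZeroDivisors R := by
  rcases subsingleton_or_nontrivial R with hR | hR
  · exact ⟨0, I.zero_mem, mem_nonZeroDivisors_iff_right.2 fun _ _ => Subsingleton.elim _ _⟩
  by_contra hcon
  push Not at hcon
  have hsub : (I : Set R) ⊆ ⋃ p ∈ associatedPrimes R R, (p : Set R) := by
    intro x hx
    rw [biUnion_associatedPrimes_eq_compl_nonZeroDivisors]
    exact hcon x hx
  have hfin : (associatedPrimes R R).Finite := associatedPrimes.finite R R
  obtain ⟨p, hp, hle⟩ := (Ideal.subset_union_prime_finite hfin (f := fun p => p) ⊥ ⊥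
    (fun i hi _ _ => hi.isPrime)).1 hsub
  obtain ⟨hpp, c, hpc⟩ := isAssociatedPrime_iff.1 hp
  have hc0 : c = 0 := h c fun a ha => by
    have h1 := hle ha
    rw [hpc, Submodule.mem_colon_singleton, Submodule.mem_bot, smul_eq_mul] at h1
    rwa [mul_comm]
  exact hpp.ne_top ((Ideal.eq_top_iff_one p).2 (by rw [hpc, Submodule.mem_colon_singleton, hc0, smul_zero]; simp))

theorem exists_regular_minor [IsNoetherianRing R] {n m : ℕ} (Ψ : Matrix (Fin n) (Fin m) R)
    (hΨ : Function.Injective Ψ.mulVec) : ∃ x ∈ CAlgX.minorIdeal Ψ m, x ∈ nonZeroDivisors R :=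
  exists_regular_mem _ fun c hc => mccoy Ψ hΨ c fun f g => hc _ (minor_mem Ψ f g)

section Square

variable {t : ℕ} (Ψ : Matrix (Fin (t + 1)) (Fin t) R)

/-- The signed maximal minors. -/
def Δ (i : Fin (t + 1)) : R := (-1 : R) ^ (i : ℕ) * (Ψ.submatrix i.succAbove id).det

/-- The matrix `[w | Ψ]`. -/
def aug (w : Fin (t + 1) → R) : Matrix (Fin (t + 1)) (Fin (t + 1)) R :=
  Matrix.of fun i => Fin.cons (w i) (Ψ i)

theorem det_aug (w : Fin (t + 1) → R) : (aug Ψ w).det = ∑ i, Δ Ψ i * w i := by
  rw [Matrix.det_succ_column_zero]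
  refine Finset.sum_congr rfl fun i _ => ?_
  rw [show (aug Ψ w).submatrix i.succAbove Fin.succ = Ψ.submatrix i.succAbove id by
    ext a b; simp [aug]]
  simp only [aug, Matrix.of_apply, Fin.cons_zero, Δ]
  ring

theorem sum_Δ_mul (j : Fin t) : ∑ i, Δ Ψ i * Ψ i j = 0 := by
  rw [← det_aug Ψ fun i => Ψ i j]
  exact Matrix.det_zero_of_column_eq (i := 0) (j := j.succ) (Fin.succ_ne_zero j).symm fun i => by simp [aug]

theorem sum_Δ_mulVec (u : Fin t → R) : ∑ i, Δ Ψ i * Ψ.mulVec u i = 0 := by
  simp only [Matrix.mulVec, dotProduct, Finset.mul_sum]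
  rw [Finset.sum_comm]
  refine Finset.sum_eq_zero fun j _ => ?_
  simp only [← mul_assoc]
  rw [← Finset.sum_mul, sum_Δ_mul, zero_mul]

theorem Δ_smul_mem (w : Fin (t + 1) → R) (h : ∑ i, Δ Ψ i * w i = 0) (k : Fin (t + 1)) :
    Δ Ψ k • w ∈ LinearMap.range Ψ.mulVecLin := by
  refine ⟨fun l => -(aug Ψ w).adjugate l.succ k, ?_⟩
  ext i
  have h1 := congrFun (congrFun (Matrix.mul_adjugate (aug Ψ w)) i) k
  rw [det_aug Ψ w, h, zero_smul, Matrix.zero_apply, Matrix.mul_apply, Fin.sum_univ_succ] at h1
  have h2 : (aug Ψ w).adjugate 0 k = Δ Ψ k := by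
    rw [Matrix.adjugate_fin_succ_eq_det_submatrix,
      show (aug Ψ w).submatrix k.succAbove (Fin.succAbove 0) = Ψ.submatrix k.succAbove id by
        ext a b; simp [aug]]
    simp [Δ]
  rw [h2] at h1
  simp only [aug, Matrix.of_apply, Fin.cons_zero, Fin.cons_succ] at h1
  rw [Matrix.mulVecLin_apply, Pi.smul_apply, smul_eq_mul, mul_comm, eq_neg_of_add_eq_zero_left h1,
    Matrix.mulVec, dotProduct, ← Finset.sum_neg_distrib]
  exact Finset.sum_congr rfl fun l _ => by rw [mul_neg]; rfl

theorem span_Δ : Ideal.span (Set.range (Δ Ψ)) = CAlgX.minorIdeal Ψ t := by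
  refine le_antisymm (Ideal.span_le.2 ?_) (Ideal.span_le.2 ?_)
  · rintro _ ⟨i, rfl⟩
    exact Ideal.mul_mem_left _ _ (minor_mem Ψ _ _)
  · rintro _ ⟨⟨f, g⟩, rfl⟩
    change (Ψ.submatrix f g).det ∈ Ideal.span (Set.range (Δ Ψ))
    by_cases hf : Function.Injective f
    swap
    · obtain ⟨a, b, hab, hne⟩ : ∃ a b, f a = f b ∧ a ≠ b := by simpa [Function.Injective] using hf
      rw [Matrix.det_zero_of_row_eq hne (funext fun i => by simp [Matrix.submatrix_apply, hab])]
      exact zero_mem _
    by_cases hg : Function.Injective g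
    swap
    · obtain ⟨a, b, hab, hne⟩ : ∃ a b, g a = g b ∧ a ≠ b := by simpa [Function.Injective] using hg
      rw [Matrix.det_zero_of_column_eq hne fun i => by simp [Matrix.submatrix_apply, hab]]
      exact zero_mem _
    obtain ⟨k, hk⟩ : ∃ k, k ∉ Set.range f := by
      by_contra hcon
      push Not at hcon
      have := Fintype.card_le_of_surjective f hcon
      simp at this
    have hmem : ∀ l, ∃ l', k.succAbove l' = f l := fun l => Fin.exists_succAbove_eq fun e => hk ⟨l, e⟩
    choose σ hσ using hmem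
    have hσb : Function.Bijective σ := Finite.injective_iff_bijective.1 fun a b e => hf (by rw [← hσ, ← hσ, e])
    let eσ : Equiv.Perm (Fin t) := Equiv.ofBijective σ hσb
    let eg : Equiv.Perm (Fin t) := Equiv.ofBijective g (Finite.injective_iff_bijective.1 hg)
    rw [show Ψ.submatrix f g = ((Ψ.submatrix k.succAbove id).submatrix eσ id).submatrix id eg by
      ext a b; simp [eσ, eg, hσ], Matrix.det_permute', Matrix.det_permute,
      show (Ψ.submatrix k.succAbove id).det = (-1) ^ (k : ℕ) * Δ Ψ k by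
        rw [Δ, ← mul_assoc, ← pow_add, Even.neg_one_pow ⟨_, rfl⟩, one_mul]]
    exact Ideal.mul_mem_left _ _ (Ideal.mul_mem_left _ _ (Ideal.mul_mem_left _ _ (Ideal.subset_span ⟨k, rfl⟩)))

end Square

/-- A pair `x, y` in `I` regular in this order. -/
def HasPair (I : Ideal R) : Prop :=
  ∃ x ∈ I, ∃ y ∈ I, x ∈ nonZeroDivisors R ∧ ∀ a : R, y * a ∈ Ideal.span {x} → a ∈ Ideal.span {x}

theorem regular_pair_iff (x y : R) : RingTheory.Sequence.IsWeaklyRegular R [x, y] ↔
    x ∈ nonZeroDivisors R ∧ ∀ a : R, y * a ∈ Ideal.span {x} → a ∈ Ideal.span {x} := by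
  have hx : (x • ⊤ : Submodule R R) = Ideal.span {x} := by
    ext a
    rw [Ideal.mem_span_singleton', Submodule.mem_smul_pointwise_iff_exists]
    simp [mul_comm]
  rw [RingTheory.Sequence.isWeaklyRegular_cons_iff, RingTheory.Sequence.isWeaklyRegular_cons_iff,
    and_iff_left (RingTheory.Sequence.IsWeaklyRegular.nil R _)]
  refine and_congr ⟨fun h => mem_nonZeroDivisors_iff_right.2 fun a ha => h.right_eq_zero_of_smul (by rwa [smul_eq_mul, mul_comm]),
    fun h => isSMulRegular_iff_right_eq_zero_of_smul.2 fun a ha => mem_nonZeroDivisors_iff_right.1 h a (by rwa [mul_comm])⟩ ?_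
  rw [isSMulRegular_iff_right_eq_zero_of_smul]
  refine ⟨fun h a ha => ?_, fun h a ha => ?_⟩
  · have := h (Submodule.Quotient.mk a) (by
      rw [← Submodule.Quotient.mk_smul, Submodule.Quotient.mk_eq_zero, hx]; exact ha)
    rwa [Submodule.Quotient.mk_eq_zero, hx] at this
  · obtain ⟨a, rfl⟩ := Submodule.Quotient.mk_surjective _ a
    rw [← Submodule.Quotient.mk_smul, Submodule.Quotient.mk_eq_zero, hx] at ha
    rw [Submodule.Quotient.mk_eq_zero, hx]
    exact h a ha

theorem two_le_idealDepth {I : Ideal R} (h : HasPair I) : 2 ≤ LocCoh.idealDepth I R := by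
  obtain ⟨x, hx, y, hy, h⟩ := h
  unfold LocCoh.idealDepth
  split_ifs
  · exact le_top
  · refine le_trans ?_ (le_iSup₂ [x, y] ⟨(regular_pair_iff x y).2 h, fun r hr => ?_⟩)
    · simp
    · rcases List.mem_cons.1 hr with rfl | hr
      · exact hx
      · rcases List.mem_cons.1 hr with rfl | hr
        · exact hy
        · simp at hr

theorem hasPair_of_depth {I : Ideal R} (h : 2 ≤ LocCoh.idealDepth I R) : HasPair I := by
  unfold LocCoh.idealDepth at h
  split_ifs at h with htop
  · rw [Ideal.smul_eq_mul, Ideal.mul_top] at htop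
    refine ⟨1, htop ▸ Submodule.mem_top, 1, htop ▸ Submodule.mem_top, one_mem _, fun a _ => ?_⟩
    rw [Ideal.span_singleton_one]
    trivial
  · obtain ⟨rs, hrs⟩ : ∃ rs : List R, (RingTheory.Sequence.IsWeaklyRegular R rs ∧ ∀ r ∈ rs, r ∈ I) ∧ 2 ≤ rs.length := by
      by_contra hcon
      push Not at hcon
      have : (2 : ℕ∞) ≤ 1 := h.trans (iSup₂_le fun rs hrs => by
        have := hcon rs hrs
        exact_mod_cast (by omega : rs.length ≤ 1))
      exact absurd this (by norm_num)
    obtain ⟨⟨hreg, hmem⟩, hlen⟩ := hrs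
    match rs, hlen with
    | x :: y :: rest, _ =>
      have h2 := ((RingTheory.Sequence.isWeaklyRegular_append_iff R [x, y] rest).1 hreg).1
      exact ⟨x, hmem x (by simp), y, hmem y (by simp), (regular_pair_iff x y).1 h2⟩

theorem exact_of_pair {t : ℕ} (Ψ : Matrix (Fin (t + 1)) (Fin t) R) (h : HasPair (CAlgX.minorIdeal Ψ t)) :
    LinearMap.ker Ψ.mulVecLin = ⊥ ∧
      ∀ w : Fin (t + 1) → R, ∑ i, Δ Ψ i * w i = 0 → w ∈ LinearMap.range Ψ.mulVecLin := by
  obtain ⟨x, hx, y, hy, hx0, hy0⟩ := h
  have hadj : ∀ (u : Fin t → R), Ψ.mulVec u = 0 → ∀ a ∈ CAlgX.minorIdeal Ψ t, a • u = 0 := by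
    intro u hu a ha
    induction ha using Submodule.span_induction with
    | mem z hz =>
      obtain ⟨⟨f, g⟩, rfl⟩ := hz
      change (Ψ.submatrix f g).det • u = 0
      by_cases hg : Function.Injective g
      · let eg : Equiv.Perm (Fin t) := Equiv.ofBijective g (Finite.injective_iff_bijective.1 hg)
        have h1 : (Ψ.submatrix f g).mulVec (u ∘ eg) = 0 := by
          rw [show (Ψ.submatrix f g) = Ψ.submatrix f eg from rfl, Matrix.submatrix_mulVec_equiv]
          ext i
          simp [Function.comp_def, hu]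
        have h2 := congrArg (Matrix.mulVec (Ψ.submatrix f g).adjugate) h1
        rw [Matrix.mulVec_mulVec, Matrix.adjugate_mul, Matrix.smul_mulVec, Matrix.one_mulVec, Matrix.mulVec_zero] at h2
        ext j
        simpa using congrFun h2 (eg.symm j)
      · obtain ⟨a, b, hab, hne⟩ : ∃ a b, g a = g b ∧ a ≠ b := by simpa [Function.Injective] using hg
        rw [Matrix.det_zero_of_column_eq hne fun i => by simp [Matrix.submatrix_apply, hab], zero_smul]
    | zero => exact zero_smul _ _
    | add p q _ _ hp hq => rw [add_smul, hp, hq, add_zero]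
    | smul r p _ hp => rw [smul_eq_mul, mul_smul, hp, smul_zero]
  have hker : ∀ u : Fin t → R, Ψ.mulVec u = 0 → u = 0 := fun u hu => funext fun j =>
    mem_nonZeroDivisors_iff_right.1 hx0 _ (by
      rw [mul_comm]; exact congrFun (hadj u hu x hx) j)
  refine ⟨LinearMap.ker_eq_bot'.2 hker, fun w hw => ?_⟩
  have hI : ∀ a ∈ CAlgX.minorIdeal Ψ t, a • w ∈ LinearMap.range Ψ.mulVecLin := by
    rw [← span_Δ]
    intro a ha
    induction ha using Submodule.span_induction with
    | mem z hz => obtain ⟨k, rfl⟩ := hz; exact Δ_smul_mem Ψ w hw k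
    | zero => rw [zero_smul]; exact zero_mem _
    | add p q _ _ hp hq => rw [add_smul]; exact add_mem hp hq
    | smul r p _ hp => rw [smul_eq_mul, mul_smul]; exact Submodule.smul_mem _ _ hp
  obtain ⟨u, hu⟩ := hI x hx
  obtain ⟨v, hv⟩ := hI y hy
  rw [Matrix.mulVecLin_apply] at hu hv
  have huv : y • u = x • v := by
    refine sub_eq_zero.1 (hker _ ?_)
    rw [Matrix.mulVec_sub, Matrix.mulVec_smul, Matrix.mulVec_smul, hu, hv, smul_comm, sub_self]
  have hz : ∀ j, ∃ z, u j = x * z := fun j => Ideal.mem_span_singleton.1 (hy0 _ (Ideal.mem_span_singleton.2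
    ⟨v j, by simpa using congrFun huv j⟩))
  choose z hz using hz
  refine ⟨z, ?_⟩
  rw [show u = x • z from funext hz, Matrix.mulVec_smul] at hu
  ext i
  have h1 := congrFun hu i
  simp only [Pi.smul_apply, smul_eq_mul] at h1
  refine sub_eq_zero.1 (mem_nonZeroDivisors_iff_right.1 hx0 _ ?_)
  rw [sub_mul, mul_comm, mul_comm (w i)]
  exact sub_eq_zero.2 h1

theorem range_linearCombination_scaled {t : ℕ} (Ψ : Matrix (Fin (t + 1)) (Fin t) R) (a : R) :
    LinearMap.range (Fintype.linearCombination R fun i => a * Δ Ψ i) =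
      Ideal.span {a} * CAlgX.minorIdeal Ψ t := by
  rw [Fintype.range_linearCombination, ← span_Δ, Ideal.span_mul_span']
  congr 1
  ext z
  simp [Set.mem_mul]

/-- The shape of a length one resolution of an ideal. -/
theorem card_eq [IsNoetherianRing R] {n m : ℕ} (Ψ : Matrix (Fin n) (Fin m) R) (π : (Fin n → R) →ₗ[R] R)
    (hΨ : Function.Injective Ψ.mulVec) (hex : LinearMap.ker π = LinearMap.range Ψ.mulVecLin)
    (hI : LinearMap.range π ≠ ⊥) : n = m + 1 := by
  classical
  by_contra hne
  let p : Fin n → R := fun i => π (Pi.single i 1)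
  have hπ : ∀ w : Fin n → R, π w = ∑ i, w i * p i := fun w => by
    conv_lhs => rw [pi_eq_sum_univ' w]
    simp [p, map_sum, map_smul]
  have key : ∀ (f : Fin m → Fin n) (i : Fin n), (Ψ.submatrix f id).det ^ 2 * p i = 0 := by
    intro f
    by_cases hf : Function.Injective f
    swap
    · obtain ⟨a, b, hab, hne⟩ : ∃ a b, f a = f b ∧ a ≠ b := by simpa [Function.Injective] using hf
      intro i
      rw [Matrix.det_zero_of_row_eq hne (funext fun j => by simp [Matrix.submatrix_apply, hab]), zero_pow two_ne_zero,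
        zero_mul]
    set A := Ψ.submatrix f id
    have hout : ∀ i, i ∉ Set.range f → A.det * p i = 0 := by
      intro i hi
      obtain ⟨j, hji, hj⟩ : ∃ j, j ≠ i ∧ j ∉ Set.range f := by
        by_contra hcon
        push Not at hcon
        have hs : Function.Surjective (Fin.cons i f : Fin (m + 1) → Fin n) := fun j => by
          by_cases hji : j = i
          · exact ⟨0, by simp [hji]⟩
          · obtain ⟨l, hl⟩ := hcon j hji
            exact ⟨l.succ, by simp [hl]⟩
        have hin : Function.Injective (Fin.cons i f : Fin (m + 1) → Fin n) := Fin.cons_injective_iff.2 ⟨hi, hf⟩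
        have := Fintype.card_of_bijective ⟨hin, hs⟩
        simp at this
        exact hne this.symm
      let v : Fin n → R := Pi.single j (p i) - Pi.single i (p j)
      have hv : v ∈ LinearMap.ker π := by
        rw [LinearMap.mem_ker, hπ]
        simp [v, sub_mul, mul_sub, Finset.sum_sub_distrib, Pi.single_apply, mul_comm]
      rw [hex] at hv
      obtain ⟨u, hu⟩ := hv
      rw [Matrix.mulVecLin_apply] at hu
      have hAu : A.mulVec u = 0 := by
        ext l
        have h1 : f l ≠ i := fun e => hi ⟨l, e⟩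
        have h2 : f l ≠ j := fun e => hj ⟨l, e⟩
        rw [show A.mulVec u l = Ψ.mulVec u (f l) from rfl, hu]
        simp [v, h1, h2]
      have hdu : A.det • u = 0 := by
        rw [← Matrix.one_mulVec u, ← Matrix.smul_mulVec, ← Matrix.adjugate_mul, ← Matrix.mulVec_mulVec,
          hAu, Matrix.mulVec_zero]
      have h3 := congrFun (congrArg Ψ.mulVec hdu) j
      rw [Matrix.mulVec_smul, Matrix.mulVec_zero, Pi.smul_apply, hu] at h3
      simpa [v, hji] using h3
    intro i
    by_cases hi : i ∈ Set.range f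
    · obtain ⟨l, rfl⟩ := hi
      let u : Fin m → R := fun q => A.adjugate q l
      have h1 : π (Ψ.mulVec u) = 0 := by
        rw [← LinearMap.mem_ker, hex]
        exact ⟨u, rfl⟩
      have h2 : ∀ l', Ψ.mulVec u (f l') = if l' = l then A.det else 0 := fun l' => by
        have := congrFun (congrFun (Matrix.mul_adjugate A) l') l
        simp only [Matrix.smul_apply, Matrix.one_apply, smul_eq_mul, mul_ite, mul_one, mul_zero] at this
        exact this
      have h3 : ∀ i, i ≠ f l → A.det * (Ψ.mulVec u i * p i) = 0 := fun i hil => by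
        by_cases hi : i ∈ Set.range f
        · obtain ⟨l', rfl⟩ := hi
          rw [h2, if_neg (fun e => hil (by rw [e])), zero_mul, mul_zero]
        · rw [mul_left_comm, hout i hi, mul_zero]
      have h4 : A.det * π (Ψ.mulVec u) = A.det * (A.det * p (f l)) := by
        rw [hπ, Finset.mul_sum, Finset.sum_eq_single (f l) (fun i _ hil => h3 i hil)
          (fun h => absurd (Finset.mem_univ _) h), h2, if_pos rfl]
      rw [sq, mul_assoc, ← h4, h1, mul_zero]
    · rw [sq, mul_assoc, hout i hi, mul_zero]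
  have hall : ∀ (f : Fin m → Fin n) (g : Fin m → Fin m) (i : Fin n), (Ψ.submatrix f g).det ^ 2 * p i = 0 := by
    intro f g i
    by_cases hg : Function.Injective g
    · let eg : Equiv.Perm (Fin m) := Equiv.ofBijective g (Finite.injective_iff_bijective.1 hg)
      rw [show Ψ.submatrix f g = (Ψ.submatrix f id).submatrix id eg from rfl, Matrix.det_permute', mul_pow,
        mul_assoc, key, mul_zero]
    · obtain ⟨a, b, hab, hne⟩ : ∃ a b, g a = g b ∧ a ≠ b := by simpa [Function.Injective] using hg
      rw [Matrix.det_zero_of_column_eq hne fun i => by simp [Matrix.submatrix_apply, hab], zero_pow two_ne_zero,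
        zero_mul]
  obtain ⟨x, hx, hx0⟩ := exists_regular_minor Ψ hΨ
  apply hI
  rw [LinearMap.range_eq_bot]
  refine LinearMap.ext fun w => (hπ w).trans ?_
  refine Finset.sum_eq_zero fun i _ => ?_
  have hle : CAlgX.minorIdeal Ψ m ≤ Ideal.radical (LinearMap.ker (LinearMap.toSpanSingleton R R (p i))) :=
    Ideal.span_le.2 (by
      rintro _ ⟨⟨f, g⟩, rfl⟩
      exact ⟨2, hall f g i⟩)
  obtain ⟨N, hN⟩ := hle hx
  have hN' : p i * x ^ N = 0 := by rw [mul_comm]; exact hN
  rw [mem_nonZeroDivisors_iff_right.1 (pow_mem hx0 N) _ hN', mul_zero]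

theorem main [IsNoetherianRing R] {t : ℕ} (Ψ : Matrix (Fin (t + 1)) (Fin t) R) (π : (Fin (t + 1) → R) →ₗ[R] R)
    (hΨ : Function.Injective Ψ.mulVec) (hex : LinearMap.ker π = LinearMap.range Ψ.mulVecLin) :
    (∃ a : R, a ∈ nonZeroDivisors R ∧ LinearMap.range π = Ideal.span {a} * CAlgX.minorIdeal Ψ t) ∧
      HasPair (CAlgX.minorIdeal Ψ t) := by
  classical
  obtain ⟨x, hx, hx0⟩ := exists_regular_minor Ψ hΨ
  let mk := Ideal.Quotient.mk (Ideal.span {x})
  -- `Ψ` stays injective modulo `x`
  have hΨx : Function.Injective (Ψ.map mk).mulVec := by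
    intro a b hab
    choose a' ha using fun j => Ideal.Quotient.mk_surjective (a j)
    choose b' hb using fun j => Ideal.Quotient.mk_surjective (b j)
    have h1 : ∀ i, ∃ c, Ψ.mulVec (a' - b') i = x * c := fun i => Ideal.mem_span_singleton.1 (by
      rw [← Ideal.Quotient.eq_zero_iff_mem, RingHom.map_mulVec]
      rw [show (mk ∘ (a' - b') : Fin t → R ⧸ Ideal.span {x}) = a - b from funext fun j => by
        simp [mk, ha, hb]]
      rw [Matrix.mulVec_sub, hab, sub_self]
      rfl)
    choose c hc using h1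
    have h2 : π (Ψ.mulVec (a' - b')) = 0 := by
      rw [← LinearMap.mem_ker, hex]
      exact ⟨_, rfl⟩
    rw [show Ψ.mulVec (a' - b') = x • c from funext hc, map_smul, smul_eq_mul] at h2
    have h3 : c ∈ LinearMap.range Ψ.mulVecLin := by
      rw [← hex, LinearMap.mem_ker]
      exact mem_nonZeroDivisors_iff_right.1 hx0 _ (by rwa [mul_comm])
    obtain ⟨u, hu⟩ := h3
    have h4 : a' - b' = x • u := hΨ (by
      rw [Matrix.mulVec_smul, show Ψ.mulVec u = c from hu]; exact funext hc)
    ext j
    rw [← ha, ← hb, Ideal.Quotient.eq, Ideal.mem_span_singleton]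
    exact ⟨u j, congrFun h4 j⟩
  obtain ⟨y', hy', hy0'⟩ := exists_regular_minor (Ψ.map mk) hΨx
  have hmap : CAlgX.minorIdeal (Ψ.map mk) t ≤ (CAlgX.minorIdeal Ψ t).map mk := Ideal.span_le.2 (by
    rintro _ ⟨⟨f, g⟩, rfl⟩
    change ((Ψ.map mk).submatrix f g).det ∈ _
    rw [show (Ψ.map mk).submatrix f g = mk.mapMatrix (Ψ.submatrix f g) from rfl, ← RingHom.map_det]
    exact Ideal.mem_map_of_mem _ (minor_mem Ψ f g))
  obtain ⟨y, hy, rfl⟩ := (Ideal.mem_map_iff_of_surjective mk Ideal.Quotient.mk_surjective).1 (hmap hy')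
  have hy0 : ∀ a : R, y * a ∈ Ideal.span {x} → a ∈ Ideal.span {x} := fun a ha => by
    refine Ideal.Quotient.eq_zero_iff_mem.1 (mem_nonZeroDivisors_iff_right.1 hy0' (mk a) ?_)
    rw [← map_mul, mul_comm, Ideal.Quotient.eq_zero_iff_mem]
    exact ha
  refine ⟨?_, x, hx, y, hy, hx0, hy0⟩
  let p : Fin (t + 1) → R := fun i => π (Pi.single i 1)
  have hcomm : ∀ k i, Δ Ψ k * p i = Δ Ψ i * p k := by
    intro k i
    let w : Fin (t + 1) → R := Pi.single i (Δ Ψ k) - Pi.single k (Δ Ψ i)
    have hw : ∑ l, Δ Ψ l * w l = 0 := by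
      simp [w, sub_mul, mul_sub, Finset.sum_sub_distrib, Pi.single_apply, mul_comm]
    have h1 : ∀ a ∈ CAlgX.minorIdeal Ψ t, a * π w = 0 := by
      rw [← span_Δ]
      intro a ha
      induction ha using Submodule.span_induction with
      | mem z hz =>
        obtain ⟨l, rfl⟩ := hz
        rw [← smul_eq_mul, ← map_smul, ← LinearMap.mem_ker, hex]
        exact Δ_smul_mem Ψ w hw l
      | zero => exact zero_mul _
      | add p q _ _ hp hq => rw [add_mul, hp, hq, add_zero]
      | smul r p _ hp => rw [smul_eq_mul, mul_assoc, hp, mul_zero]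
    have h2 : π w = 0 := mem_nonZeroDivisors_iff_right.1 hx0 _ (by rw [mul_comm]; exact h1 x hx)
    rw [map_sub, sub_eq_zero] at h2
    rw [← smul_eq_mul, ← smul_eq_mul, ← map_smul, ← map_smul, ← Pi.single_smul, ← Pi.single_smul,
      smul_eq_mul, smul_eq_mul, mul_one, mul_one]
    exact h2
  have hscal : ∀ a ∈ CAlgX.minorIdeal Ψ t, ∃ b, ∀ i, a * p i = Δ Ψ i * b := by
    rw [← span_Δ]
    intro a ha
    induction ha using Submodule.span_induction with
    | mem z hz => obtain ⟨k, rfl⟩ := hz; exact ⟨p k, fun i => hcomm k i⟩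
    | zero => exact ⟨0, fun i => by simp⟩
    | add a₁ a₂ _ _ h1 h2 =>
      obtain ⟨b₁, h1⟩ := h1
      obtain ⟨b₂, h2⟩ := h2
      exact ⟨b₁ + b₂, fun i => by rw [add_mul, mul_add, h1, h2]⟩
    | smul r a₁ _ h1 =>
      obtain ⟨b₁, h1⟩ := h1
      exact ⟨r * b₁, fun i => by rw [smul_eq_mul, mul_assoc, h1]; ring⟩
  obtain ⟨A, hA⟩ := hscal x hx
  obtain ⟨B, hB⟩ := hscal y hy
  have hAB : y * A = x * B := by
    have h1 : ∀ a ∈ CAlgX.minorIdeal Ψ t, a * (y * A - x * B) = 0 := by
      rw [← span_Δ]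
      intro a ha
      induction ha using Submodule.span_induction with
      | mem z hz =>
        obtain ⟨k, rfl⟩ := hz
        have h1 := hA k
        have h2 := hB k
        linear_combination x * h2 - y * h1
      | zero => exact zero_mul _
      | add p q _ _ hp hq => rw [add_mul, hp, hq, add_zero]
      | smul r p _ hp => rw [smul_eq_mul, mul_assoc, hp, mul_zero]
    exact sub_eq_zero.1 (mem_nonZeroDivisors_iff_right.1 hx0 _ (by rw [mul_comm]; exact h1 x hx))
  obtain ⟨a, rfl⟩ := Ideal.mem_span_singleton.1 (hy0 A (Ideal.mem_span_singleton.2 ⟨B, hAB⟩))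
  have hpa : ∀ i, p i = a * Δ Ψ i := fun i =>
    sub_eq_zero.1 (mem_nonZeroDivisors_iff_right.1 hx0 _ (by rw [sub_mul]; linear_combination hA i))
  have hπa : π = Fintype.linearCombination R fun i => a * Δ Ψ i := by
    refine LinearMap.pi_ext fun i r => ?_
    rw [show (Pi.single i r : Fin (t + 1) → R) = r • Pi.single i 1 by
      rw [← Pi.single_smul, smul_eq_mul, mul_one], map_smul, map_smul, Fintype.linearCombination_apply_single, one_smul]
    exact congrArg _ (hpa i)
  refine ⟨a, mem_nonZeroDivisors_iff_right.2 fun c hc => ?_, by rw [hπa, range_linearCombination_scaled]⟩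
  have h1 : ∀ i, (Pi.single i c : Fin (t + 1) → R) ∈ LinearMap.range Ψ.mulVecLin := fun i => by
    rw [← hex, LinearMap.mem_ker, hπa, Fintype.linearCombination_apply_single, smul_eq_mul, ← mul_assoc, hc, zero_mul]
  have h2 : ∀ i, Δ Ψ i * c = 0 := fun i => by
    obtain ⟨u, hu⟩ := h1 i
    have h3 := sum_Δ_mulVec Ψ u
    rw [show Ψ.mulVec u = Pi.single i c from hu] at h3
    simpa [Pi.single_apply] using h3
  refine mem_nonZeroDivisors_iff_right.1 hx0 c ?_
  rw [mul_comm]
  have h4 : ∀ z ∈ CAlgX.minorIdeal Ψ t, z * c = 0 := by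
    rw [← span_Δ]
    intro z hz
    induction hz using Submodule.span_induction with
    | mem z hz => obtain ⟨i, rfl⟩ := hz; exact h2 i
    | zero => exact zero_mul _
    | add p q _ _ hp hq => rw [add_mul, hp, hq, add_zero]
    | smul r p _ hp => rw [smul_eq_mul, mul_assoc, hp, mul_zero]
  exact h4 x hx

end Groth.Agent.HilbBurch
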